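import Groth.Agent.SheafHomX.Coherent
import Groth.Agent.KFlatLib.Scheme.ProjModule
import Groth.Agent.QCoh.SpecFT
import Groth.Agent.QCoh.ClosedPush
import Groth.Prelude.Def_ClSub2

/-!
# Tensoring and homs with the structure sheaf of a closed subscheme

`- ⊗ i_*O_Z` is `i_* i^*`, `Hom(i_*O_Z, -)` is `i_*` of the right adjoint of `i_*`, the structure sheaf
surjects onto that of a closed subscheme, and homs out of finitely presented modules are quasi-coherent.
-/

set_option linter.style.haveILetI false
set_option backward.isDefEq.respectTransparency false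

universe u

open CategoryTheory CategoryTheory.Limits AlgebraicGeometry TopologicalSpace Opposite

noncomputable section

namespace Groth.Agent.ClosedHom7

open Groth.Agent

attribute [local instance] QCoh.hasFiniteBiproducts

variable {X P : Scheme.{u}} (ι : X ⟶ P) [IsClosedImmersion ι]

/-- Tensoring with the structure sheaf of the subscheme. -/
def tenPushIso : SheafHomX.ten ((Scheme.Modules.pushforward ι).obj (Coh.structureModule X)) ≅
    Scheme.Modules.pullback ι ⋙ Scheme.Modules.pushforward ι :=
  haveI : ∀ N, IsIso (KFlatLib.projMod ι (Coh.structureModule X) N) :=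
    fun N => KFlatLib.isIso_projMod_of_isClosedImmersion ι _ N
  (KFlatLib.tensorBiFlipIso P).app _ ≪≫
    (NatIso.ofComponents (fun N => asIso (KFlatLib.projMod ι (Coh.structureModule X) N))
      (fun g => KFlatLib.projMod_naturality_right ι (Coh.structureModule X) g) :
      DCoh.tensorBi.obj ((Scheme.Modules.pushforward ι).obj (Coh.structureModule X)) ≅
        Scheme.Modules.pullback ι ⋙ DCoh.tensorBi.obj (Coh.structureModule X) ⋙ Scheme.Modules.pushforward ι) ≪≫
    Functor.isoWhiskerLeft (Scheme.Modules.pullback ι) (Functor.isoWhiskerRight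
      (((KFlatLib.tensorBiFlipIso X).app (Coh.structureModule X)).symm ≪≫ KFlatLib.tensorStructureIso X)
      (Scheme.Modules.pushforward ι) ≪≫ Functor.leftUnitor _)

/-- The internal hom out of the structure sheaf of the subscheme. -/
def homPushIso [(Scheme.Modules.pushforward ι).IsLeftAdjoint] :
    SheafHomX.hom ((Scheme.Modules.pushforward ι).obj (Coh.structureModule X)) ≅
      (Scheme.Modules.pushforward ι).rightAdjoint ⋙ Scheme.Modules.pushforward ι :=
  ((SheafHomX.adj _).ofNatIsoLeft (tenPushIso ι)).rightAdjointUniq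
    ((Scheme.Modules.pullbackPushforwardAdjunction ι).comp (Adjunction.ofIsLeftAdjoint _))

/-- The structure sheaf surjects onto that of a closed subscheme. -/
theorem epi_toSubscheme (I : X.IdealSheafData) : Epi (ClSub.toSubscheme I) :=
  Preadditive.epi_of_cancel_zero _ fun {T} g hg => by
    refine Scheme.Modules.hom_ext g 0 fun V => AddCommGrpCat.ext fun y => ?_
    refine (QCoh.eq_zero_of_locally V _ fun p hp => ?_).trans rfl
    obtain ⟨_, ⟨W, hW, rfl⟩, hpW, hWV⟩ :=
      X.isBasis_affineOpens.exists_subset_of_mem_open (show p ∈ V from hp) V.isOpen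
    refine ⟨W, homOfLE hWV, hpW, ?_⟩
    rw [← QCoh.map_app_comm]
    obtain ⟨r, hr⟩ := I.subschemeι_app_surjective ⟨W, hW⟩
      ((ClSub.quotMod I).presheaf.map (homOfLE hWV).op y)
    exact (congrArg (g.app W) hr.symm).trans congr(($hg).app W r)

/-- Finitely presented modules on an affine scheme have presentations by finite sums of the structure sheaf. -/
theorem exists_presentation_biproduct {R : CommRingCat.{u}} {M : (Spec R).Modules} (hq : Coh.IsQCoh M)
    [Module.FinitePresentation R (moduleSpecΓFunctor.obj M)] :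
    ∃ (σ τ : Type u) (_ : Fintype σ) (_ : Fintype τ)
      (f : (⨁ fun _ : τ => Coh.structureModule (Spec R)) ⟶ ⨁ fun _ : σ => Coh.structureModule (Spec R))
      (g : (⨁ fun _ : σ => Coh.structureModule (Spec R)) ⟶ M) (w : f ≫ g = 0),
      Epi g ∧ (ShortComplex.mk f g w).Exact := by
  obtain ⟨P, hP⟩ := QCoh.exists_presentation_of_finitePresentation hq
  haveI : Finite P.generators.I := SheafOfModules.GeneratingSections.IsFiniteType.finite
  haveI : Finite P.relations.I := SheafOfModules.GeneratingSections.IsFiniteType.finite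
  haveI := Fintype.ofFinite P.generators.I
  haveI := Fintype.ofFinite P.relations.I
  let a : (⨁ fun _ : P.generators.I => Coh.structureModule (Spec R)) ≅
      (SheafOfModules.free P.generators.I : (Spec R).Modules) :=
    biproduct.isoCoproduct _
  let b : (⨁ fun _ : P.relations.I => Coh.structureModule (Spec R)) ≅
      (SheafOfModules.free P.relations.I : (Spec R).Modules) :=
    biproduct.isoCoproduct _
  let π : (SheafOfModules.free P.generators.I : (Spec R).Modules) ⟶ M := P.generators.π
  let k : (SheafOfModules.free P.relations.I : (Spec R).Modules) ⟶ kernel π := P.relations.π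
  haveI : Epi k := inferInstanceAs (Epi P.relations.π)
  haveI : Epi π := inferInstanceAs (Epi P.generators.π)
  have w : (b.hom ≫ k ≫ kernel.ι π ≫ a.inv) ≫ (a.hom ≫ π) = 0 := by
    simp
  refine ⟨_, _, inferInstance, inferInstance, _, _, w, inferInstance, ?_⟩
  have h0 : (ShortComplex.mk (kernel.ι π) π (kernel.condition π)).Exact :=
    ShortComplex.exact_of_f_is_kernel _ (kernelIsKernel π)
  have h1 : (ShortComplex.mk (k ≫ kernel.ι π) π (by simp)).Exact := by
    let φ : ShortComplex.mk (k ≫ kernel.ι π) π (by simp) ⟶ ShortComplex.mk (kernel.ι π) π (kernel.condition π) :=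
      { τ₁ := k, τ₂ := 𝟙 _, τ₃ := 𝟙 _ }
    exact (ShortComplex.exact_iff_of_epi_of_isIso_of_mono φ).2 h0
  refine (ShortComplex.exact_iff_of_iso (ShortComplex.isoMk b a (Iso.refl M) ?_ ?_)).2 h1
  · simp
  · simp

/-- The sheaf of homomorphisms out of a finitely presented module into a quasi-coherent one is quasi-coherent. -/
theorem isQCoh_hom_of_isFP {M N : X.Modules} (hM : CohB1.IsFP M) (hN : Coh.IsQCoh N) :
    Coh.IsQCoh ((SheafHomX.hom M).obj N) := by
  refine QCoh.isQCoh_of_isOpenCover (fun U : X.affineOpens => U.1) (iSup_affineOpens_eq_top X) fun U => ?_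
  refine (QCoh.isQCoh_restrict_iff_of_iso U.2.isoSpec.inv).1
    ((QCoh.isQCoh_iff_iso (QCoh.restrictRestrict _ _ _)).2 ?_)
  show Coh.IsQCoh (((SheafHomX.hom M).obj N).restrict U.2.fromSpec)
  haveI := QCoh.finitePresentation_of_isFP hM U.2
  haveI : Module.FinitePresentation Γ(X, U.1) (moduleSpecΓFunctor.obj (M.restrict U.2.fromSpec)) :=
    Module.FinitePresentation.of_equiv (QCoh.chartEquiv U.2 M)
  obtain ⟨σ, τ, _, _, f, g, w, hg, he⟩ :=
    exists_presentation_biproduct (QCoh.isQCoh_restrict U.2.fromSpec (QCoh.isQCoh_of_isFP hM))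
  exact (QCoh.isQCoh_iff_iso ((SheafHomX.restrictIso U.2.fromSpec M).app N)).2
    (SheafHomX.isQCoh_hom_of_presentation f g w he (QCoh.isQCoh_restrict _ hN)).1

end Groth.Agent.ClosedHom7
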